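import Groth.Agent.Lib.K0Pn9.Mutate
import Groth.Agent.Lib.DbCohProj9.Main
import Groth.Agent.Lib.PicPn.OverPoint
import Groth.Agent.Lib.CurveCoh17.Skyscraper
import Groth.Agent.Lib.CBC10.CorepHom
import Groth.Agent.Lib.RHom.K0Coh
import Groth.Agent.Lib.Snapper.Main
import Groth.Agent.S0843
import Groth.Agent.S0844
import Groth.Agent.S1052

/-! The Grothendieck group of coherent sheaves on projective space is free on the first twists. -/

set_option autoImplicit false
set_option linter.style.haveILetI false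
set_option linter.unusedSectionVars false
set_option backward.isDefEq.respectTransparency false
set_option backward.isDefEq.respectTransparency.types false
set_option maxHeartbeats 1600000

universe u

open CategoryTheory CategoryTheory.Limits AlgebraicGeometry CategoryTheory.Pretriangulated

attribute [local instance] HasDerivedCategory.standard
attribute [local instance] Groth.Agent.DbCohPn9.overPn

namespace Groth.Agent.K0Pn9

variable {k : Type u} [Field k] {n : ℕ}

local notation "PP" => CohB1.ProjSpace n k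
local notation "O(" d ")" => _root_.Twist.twistProjSpace n k d

theorem isNoetherian_pn : IsNoetherian PP :=
  CohFound.isNoetherian_of_isProper (PP ↘ Spec (CommRingCat.of k))

theorem isCoh_twist (d : ℤ) : Coh.IsCoh O(d) :=
  haveI : IsNoetherian PP := isNoetherian_pn
  CohFound.isCoh_of_isFinLocFree (M2.isFinLocFree_of_isInvertible (Twist.isInvertible_twistProjSpace n k d))

theorem subsingleton_sections {d : ℤ} (hd : -(n : ℤ) ≤ d) (hd' : d < 0) :
    Subsingleton (Coh.structureModule PP ⟶ O(d)) := by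
  haveI := Groth.Agent.S0844.result k n d 0 (by omega) (by omega)
  exact ((CBC10.homUnit O(d)).trans (CurveCoh17.hh0 O(d)).symm).toEquiv.subsingleton

theorem exists_smul_one (f : Coh.structureModule PP ⟶ Coh.structureModule PP) :
    ∃ c : k, f = c • 𝟙 (Coh.structureModule PP) := by
  obtain ⟨c, hc⟩ := (Twist.bijective_toSpec_appTop n k).2 ((CBC10.homUnit _) f)
  refine ⟨c, (CBC10.homUnit _).injective ?_⟩
  rw [← hc, KLin.smul_id]
  have hres : ∀ r : Coh.Γtop PP, (Formal.smulModΓ (Coh.structureModule PP) r).app ⊤ (M1.one ⊤) = r := by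
    intro r
    rw [KLin.smulModΓ_app_apply]
    rw [show (PP).presheaf.map (homOfLE (le_top : (⊤ : (PP).Opens) ≤ ⊤)).op = 𝟙 _ from (PP).presheaf.map_id _]
    exact mul_one r
  exact (hres _).symm

/-- Maps between small twists. -/
theorem subsingleton_tw_hom {a b : ℤ} (h : -(n : ℤ) ≤ b - a) {j : ℤ}
    (hj : j ≠ 0 ∨ b - a < 0) : Subsingleton (PnKoszul9.tw n k a ⟶ (PnKoszul9.tw n k b)⟦j⟧) := by
  let F := PnKoszul9.tk (n := n) (A := k) (-a)
  haveI := PnKoszul9.isEquivalence_twD (_root_.Twist.twistProjSpace n k (-a)) (Twist.isInvertible_twistProjSpace n k (-a))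
  obtain ⟨wa⟩ := PnKoszul9.nonempty_tk_single (n := n) (A := k) (-a) a 0
  obtain ⟨wb⟩ := PnKoszul9.nonempty_tk_single (n := n) (A := k) (-a) b 0
  obtain ⟨z⟩ := Twist.nonempty_twist_zero_iso (CohB1.polyGrading n k)
  let S := DerivedCategory.singleFunctor (PP).Modules
  let ea : F.obj (PnKoszul9.tw n k a) ≅ TwistBC9.oneD PP 0 :=
    wa ≪≫ (S 0).mapIso (eqToIso (congrArg _ (add_neg_cancel a)) ≪≫ z)
  let eb : F.obj ((PnKoszul9.tw n k b)⟦j⟧) ≅ (S (-j)).obj O(b - a) :=
    (F.commShiftIso j).app _ ≪≫ (shiftFunctor _ j).mapIso (wb ≪≫ (S 0).mapIso (eqToIso (by rw [sub_eq_add_neg]))) ≪≫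
      ((DerivedCategory.singleFunctors (PP).Modules).shiftIso j (-j) 0 (by omega)).app _
  haveI : Subsingleton (TwistBC9.oneD PP 0 ⟶ (S (-j)).obj O(b - a)) := by
    refine ⟨fun f g => ?_⟩
    rcases lt_trichotomy j 0 with hj0 | hj0 | hj0
    · exact (DerivedCategory.TStructure.t.zero f 0 (-j) (by omega)).trans
        (DerivedCategory.TStructure.t.zero g 0 (-j) (by omega)).symm
    · subst hj0
      haveI := subsingleton_sections (k := k) h (hj.resolve_left (fun h' => h' rfl))
      obtain ⟨f', rfl⟩ := (S 0).map_surjective f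
      obtain ⟨g', rfl⟩ := (S 0).map_surjective g
      exact congrArg _ (Subsingleton.elim f' g')
    · have h0 : ∀ φ : TwistBC9.oneD PP 0 ⟶ (S (-j)).obj O(b - a), φ = 0 := fun φ => by
        have key : ∀ (p : ℤ) (_ : p = -j + j)
            (ψ : TwistBC9.oneD PP p ⟶ (S (-j)).obj O(b - a)), ψ = 0 := by
          rintro p rfl ψ
          exact PnKoszul9.hom_one_tw_eq_zero h hj0 (-j) ψ
        exact key 0 (by omega) φ
      exact (h0 f).trans (h0 g).symm
  refine ⟨fun f g => F.map_injective ?_⟩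
  rw [← cancel_epi ea.inv, ← cancel_mono eb.hom]
  exact Subsingleton.elim _ _

theorem exceptional_tw (d : ℤ) : Exceptional k (PnKoszul9.tw n k d) := by
  refine ⟨fun m hm => subsingleton_tw_hom (by omega) (Or.inl hm), fun f => ?_⟩
  let T := DCoh.tensorRightMod (_root_.Twist.twistProjSpace n k d)
  haveI := DbCohProj9.linear_tensorRightMod (k := k) (_root_.Twist.twistProjSpace n k d)
  haveI := PnKoszul9.isEquivalence_tensorRightMod (_root_.Twist.twistProjSpace n k d) (Twist.isInvertible_twistProjSpace n k d)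
  obtain ⟨f', rfl⟩ := (DerivedCategory.singleFunctor (PP).Modules 0).map_surjective f
  let u : T.obj (Coh.structureModule PP) ≅ O(d) := M2.tensorLUnit _
  obtain ⟨g, hg⟩ := T.map_surjective (u.hom ≫ f' ≫ u.inv)
  obtain ⟨c, rfl⟩ := exists_smul_one g
  refine ⟨c, ?_⟩
  have : f' = c • 𝟙 O(d) := by
    rw [← cancel_epi u.hom, ← cancel_mono u.inv, Category.assoc, ← hg, T.map_smul, CategoryTheory.Functor.map_id,
      Linear.comp_smul, Category.comp_id, Linear.smul_comp, Iso.hom_inv_id]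
  rw [this, Functor.map_smul, CategoryTheory.Functor.map_id]

theorem cohbP_obj₃ (T : Triangle (DCoh.D PP)) (hT : T ∈ distTriang _) (h₁ : SGA6.cohbP PP T.obj₁)
    (h₂ : SGA6.cohbP PP T.obj₂) : SGA6.cohbP PP T.obj₃ := by
  haveI : IsNoetherian PP := isNoetherian_pn
  obtain ⟨c₁, a₁, b₁, ha₁, hb₁⟩ := h₁
  obtain ⟨c₂, a₂, b₂, ha₂, hb₂⟩ := h₂
  have hz : ∀ i, IsZero ((DerivedCategory.homologyFunctor (PP).Modules i).obj T.obj₂) →
      IsZero ((DerivedCategory.homologyFunctor (PP).Modules (i + 1)).obj T.obj₁) → IsZero ((DerivedCategory.homologyFunctor (PP).Modules i).obj T.obj₃) := fun i h h' =>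
    (DerivedCategory.HomologySequence.exact₃ T hT i (i + 1) rfl).isZero_X₂ (h.eq_of_src _ _) (h'.eq_of_tgt _ _)
  refine ⟨fun i => K0Db.Serre.middle K0Coh.serre_coh _ _ _ _ _ _ _
    (DerivedCategory.HomologySequence.exact₂ T hT i)
    (DerivedCategory.HomologySequence.exact₃ T hT i (i + 1) rfl)
    (DerivedCategory.HomologySequence.exact₁ T hT i (i + 1) rfl) (c₁ i) (c₂ i) (c₁ (i + 1)) (c₂ (i + 1)),
    min (a₁ - 1) a₂, max b₁ b₂, ?_, ?_⟩
  · refine (DerivedCategory.isGE_iff _ _).2 fun i hi => hz i ((DerivedCategory.isGE_iff _ _).1 ha₂ i ?_)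
      ((DerivedCategory.isGE_iff _ _).1 ha₁ (i + 1) ?_)
    · exact lt_of_lt_of_le hi (min_le_right _ _)
    · have := lt_of_lt_of_le hi (min_le_left (a₁ - 1) a₂)
      omega
  · refine (DerivedCategory.isLE_iff _ _).2 fun i hi => hz i ((DerivedCategory.isLE_iff _ _).1 hb₂ i ?_)
      ((DerivedCategory.isLE_iff _ _).1 hb₁ (i + 1) ?_)
    · exact lt_of_le_of_lt (le_max_right _ _) hi
    · have := lt_of_le_of_lt (le_max_left b₁ b₂) hi
      omega

theorem cohbP_iso {K L : DCoh.D PP} (e : K ≅ L) (h : SGA6.cohbP PP K) : SGA6.cohbP PP L := by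
  obtain ⟨hc, a, b, ha, hb⟩ := h
  exact ⟨fun i => CohFound.isCoh_of_iso ((DerivedCategory.homologyFunctor _ i).mapIso e) (hc i), a, b,
    DerivedCategory.TStructure.t.isGE_of_iso e a, DerivedCategory.TStructure.t.isLE_of_iso e b⟩

theorem cohbP_tw_shift (d m : ℤ) : SGA6.cohbP PP ((PnKoszul9.tw n k d)⟦m⟧) := by
  haveI : IsNoetherian PP := isNoetherian_pn
  obtain ⟨hc, a, b, ha, hb⟩ := K0Db.bd_single K0Coh.serre_coh (isCoh_twist (k := k) (n := n) d) 0
  haveI := ha
  haveI := hb
  exact ⟨DbCohProj9.isCohD_shift hc m, a - m, b - m, DerivedCategory.TStructure.t.isGE_shift _ a m (a - m) (by omega),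
    DerivedCategory.TStructure.t.isLE_shift _ b m (b - m) (by omega)⟩

theorem clTr_shift_mem (H : AddSubgroup (KZero.K0tr (SGA6.cohbP PP))) {d : ℤ}
    (h : KZero.clTr (SGA6.cohbP PP) (PnKoszul9.tw n k d) ∈ H) (m : ℤ) :
    KZero.clTr (SGA6.cohbP PP) ((PnKoszul9.tw n k d)⟦m⟧) ∈ H := by
  haveI : IsNoetherian PP := isNoetherian_pn
  let G := PnKoszul9.tw n k d
  let Z : DCoh.D PP := (DerivedCategory.singleFunctor (PP).Modules 0).obj (HasZeroObject.zero' (PP).Modules).zero
  have hZ : IsZero Z := Functor.map_isZero _ (isZero_zero _)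
  have hPZ : SGA6.cohbP PP Z := K0Db.bd_single K0Coh.serre_coh (K0Coh.serre_coh.zero (isZero_zero _)) 0
  have hP := cohbP_tw_shift (k := k) (n := n) d
  have step : ∀ a : ℤ, KZero.clTr (SGA6.cohbP PP) (G⟦a + 1⟧) = - KZero.clTr (SGA6.cohbP PP) (G⟦a⟧) := fun a => by
    let e := (shiftFunctorAdd' (DCoh.D PP) a 1 (a + 1) rfl).app G
    have h1 : SGA6.cohbP PP ((G⟦a⟧)⟦(1 : ℤ)⟧) := by
      obtain ⟨hc, x, y, hx, hy⟩ := hP a
      haveI := hx
      haveI := hy
      exact ⟨DbCohProj9.isCohD_shift hc 1, x - 1, y - 1, DerivedCategory.TStructure.t.isGE_shift _ x 1 (x - 1) (by omega),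
        DerivedCategory.TStructure.t.isLE_shift _ y 1 (y - 1) (by omega)⟩
    rw [K0Cat.clTr_iso e hZ (hP _) h1 hPZ]
    exact K0Cat.clTr_shift_one hZ (hP a) h1 hPZ
  induction m using Int.inductionOn' (b := 0) with
  | zero =>
    have h0 : SGA6.cohbP PP G := K0Db.bd_single K0Coh.serre_coh (isCoh_twist (k := k) (n := n) d) 0
    change KZero.clTr (SGA6.cohbP PP) (G⟦(0 : ℤ)⟧) ∈ H
    rw [← K0Cat.clTr_iso (P := SGA6.cohbP PP) ((shiftFunctorZero (DCoh.D PP) ℤ).app G).symm hZ h0 (hP 0) hPZ]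
    exact h
  | succ a _ ih => rw [step a]; exact neg_mem ih
  | pred a _ ih =>
    have := step (a - 1)
    rw [sub_add_cancel] at this
    rw [← neg_neg (KZero.clTr _ _), ← this]
    exact neg_mem ih

theorem orth_of_away {E : DCoh.D PP} {G : DCoh.D PP} (h : Away G E) : PnKoszul9.Orth E G := fun m φ => by
  let u := (shiftEquiv (DCoh.D PP) m).unitIso.app G
  refine (shiftFunctor (DCoh.D PP) (-m)).map_injective ?_
  rw [Functor.map_zero, ← cancel_epi u.hom, comp_zero]
  exact @Subsingleton.elim _ (h (-m)) _ _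

/-- The classes of the first twists generate. -/
theorem clTr_mem (H : AddSubgroup (KZero.K0tr (SGA6.cohbP PP)))
    (hH : ∀ d : ℕ, d ≤ n → KZero.clTr (SGA6.cohbP PP) (PnKoszul9.tw n k (-(d : ℤ))) ∈ H)
    {E : DCoh.D PP} (hE : SGA6.cohbP PP E) : KZero.clTr (SGA6.cohbP PP) E ∈ H := by
  suffices ∀ r : ℕ, r ≤ n + 1 → ∃ C, SGA6.cohbP PP C ∧ (∀ d : ℕ, d < r → Away (PnKoszul9.tw n k (-(d : ℤ))) C) ∧
      KZero.clTr (SGA6.cohbP PP) E - KZero.clTr (SGA6.cohbP PP) C ∈ H by
    obtain ⟨C, hC, hA, hcl⟩ := this (n + 1) le_rfl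
    have hz : IsZero C := PnKoszul9.isZero_of_ot_all C (fun i => (hC.1 i).1)
      (PnKoszul9.ot_all C fun d hd => orth_of_away (hA d (by omega)))
    rw [K0Cat.clTr_of_isZero hz hC, sub_zero] at hcl
    exact hcl
  intro r
  induction r with
  | zero => exact fun _ => ⟨E, hE, fun d h => absurd h (Nat.not_lt_zero d), by rw [sub_self]; exact zero_mem H⟩
  | succ r ih =>
    intro hr
    obtain ⟨C, hC, hA, hcl⟩ := ih (by omega)
    let G := PnKoszul9.tw n k (-(r : ℤ))
    obtain ⟨hfin, hbd⟩ := DbCohProj9.finite_perfect_cohbP (k := k) hC (PnKoszul9.isPerfect_tw (R := k) (n := n) (-(r : ℤ)))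
    obtain ⟨C', ⟨hC', hA'⟩, hGC, hcl'⟩ := exists_away (exceptional_tw (k := k) (n := n) (-(r : ℤ)))
      (fun X => SGA6.cohbP PP X ∧ ∀ d : ℕ, d < r → Away (PnKoszul9.tw n k (-(d : ℤ))) X)
      (fun h => h.1) (cohbP_tw_shift (-(r : ℤ))) H (clTr_shift_mem H (hH r (by omega)))
      (fun T i hT e h => ⟨cohbP_obj₃ T hT (cohbP_iso e.symm (cohbP_tw_shift _ _)) h.1, fun d hd =>
        Away.cone (G := G) (fun j => subsingleton_tw_hom (by omega) (Or.inr (by omega))) T hT e (h.2 d hd)⟩)
      hbd.toFinset _ C ⟨hC, hA⟩ hfin (fun j hj => not_nontrivial_iff_subsingleton.1 (by simpa using hj)) le_rfl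
    refine ⟨C', hC', fun d hd => ?_, ?_⟩
    · rcases (Nat.lt_succ_iff.1 hd).lt_or_eq with h | rfl
      exacts [hA' d h, hGC]
    · rw [← sub_add_sub_cancel _ (KZero.clTr (SGA6.cohbP PP) C)]
      exact add_mem hcl hcl'

theorem euler_twist {m : ℤ} (hm : -(n : ℤ) ≤ m) (hm' : m ≤ 0) :
    Curv2.euler k PP O(m) = if m = 0 then 1 else 0 := by
  obtain ⟨N, hN⟩ := EulerAdd18.exists_bdd k PP
  have hb : EulerAdd18.Bdd k (N + 1) O(m) := hN _ (isCoh_twist m)
  rw [hb.euler_eq, Finset.sum_eq_single 0 (fun q _ hq => by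
      haveI := Groth.Agent.S0844.result k n m q (by omega) (by omega)
      simp [Module.finrank_zero_of_subsingleton]) (by simp), pow_zero, one_mul]
  split_ifs with h
  · subst h
    obtain ⟨e⟩ := Groth.Agent.S0843.result k n 0
    haveI := hb.fin 0
    have e' := e.finrank_eq
    rw [MvPolynomial.homogeneousSubmodule_zero, Submodule.one_eq_span,
      finrank_span_singleton one_ne_zero] at e'
    exact_mod_cast e'
  · haveI := Groth.Agent.S0844.result k n m 0 (by omega) (by omega)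
    simp [Module.finrank_zero_of_subsingleton]

theorem euler_iso {M N : (PP).Modules} (e : M ≅ N) (hM : Coh.IsCoh M) :
    Curv2.euler k PP M = Curv2.euler k PP N := by
  haveI : IsNoetherian PP := isNoetherian_pn
  obtain ⟨B, hB⟩ := EulerAdd18.exists_bdd k PP
  let Z : (PP).Modules := cokernel e.hom
  have hZ : IsZero Z := isZero_cokernel_of_epi _
  have hS : (ShortComplex.mk e.hom (cokernel.π e.hom) (cokernel.condition _)).ShortExact :=
    { exact := ShortComplex.exact_of_g_is_cokernel _ (cokernelIsCokernel e.hom) }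
  have hN := CohFound.isCoh_of_iso e hM
  have hZc : Coh.IsCoh Z := DPerf.isCoh_of_isZero hZ
  have := EulerAdd18.euler_add (k := k) hS (hB _ hM) (hB _ hN) (hB _ hZc)
  rw [Snapper.euler_of_isZero (k := k) hZc hZ] at this
  simpa using this.symm

/-- Euler characteristics against the twists. -/
noncomputable def chiVec : KZero.K0sub (fun M : (PP).Modules => Coh.IsCoh M) →+ (Fin (n + 1) → ℤ) :=
  K0Cat.liftSub (fun M j => Curv2.euler k PP (CohB1.tensorMod M.1 O(((j : ℕ) : ℤ))))
    (fun _ h₁ h₂ h₃ hS => funext fun _ => Snapper.euler_tensor_add (k := k) hS h₁ h₂ h₃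
      (Twist.isInvertible_twistProjSpace n k _))

theorem chiVec_twist {d : ℕ} (j : Fin (n + 1)) (hd : d ≤ n) (hdj : (j : ℕ) ≤ d) :
    chiVec (k := k) (KZero.clSub (fun M : (PP).Modules => Coh.IsCoh M) O(-(d : ℤ))) j =
      if (j : ℕ) = d then 1 else 0 := by
  haveI : IsNoetherian PP := isNoetherian_pn
  obtain ⟨t⟩ := Twist.nonempty_tensor_iso (CohB1.polyGrading n k) (-(d : ℤ)) ((j : ℕ) : ℤ) (Twist.iSup_basicOpen_one n k)
  rw [chiVec, K0Cat.liftSub_clSub _ _ (isCoh_twist (k := k) (n := n) (-(d : ℤ)))]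
  refine (euler_iso t (CurveCoh17.isCoh_tensor (isCoh_twist _) (isCoh_twist _))).trans
    ((euler_twist (k := k) (n := n) (m := -(d : ℤ) + (j : ℕ)) (by omega) (by omega)).trans ?_)
  by_cases h : (j : ℕ) = d
  · rw [if_pos h, if_pos (by omega)]
  · rw [if_neg h, if_neg (by omega)]

theorem bijective_twists : Function.Bijective (fun a : Fin (n + 1) → ℤ =>
    ∑ i : Fin (n + 1), a i • KZero.clSub (fun M : (PP).Modules => Coh.IsCoh M) O(-((i : ℕ) : ℤ))) := by
  haveI : IsNoetherian PP := isNoetherian_pn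
  let P : ObjectProperty (PP).Modules := fun M => Coh.IsCoh M
  let g : Fin (n + 1) → KZero.K0sub P := fun i => KZero.clSub P O(-((i : ℕ) : ℤ))
  let F : (Fin (n + 1) → ℤ) →+ KZero.K0sub P :=
    { toFun := fun a => ∑ i, a i • g i
      map_zero' := by simp
      map_add' := fun a b => by simp [add_smul, Finset.sum_add_distrib] }
  constructor
  · refine (injective_iff_map_eq_zero F).2 fun a ha => funext fun j => ?_
    obtain ⟨m, hm⟩ := j
    induction m using Nat.strong_induction_on with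
    | _ m ih =>
      have h0 : chiVec (k := k) (F a) ⟨m, hm⟩ = 0 := by rw [ha, map_zero]; rfl
      change chiVec (k := k) (∑ i, a i • g i) ⟨m, hm⟩ = 0 at h0
      rw [map_sum, Finset.sum_apply, Finset.sum_eq_single ⟨m, hm⟩ (fun i _ hi => ?_) (by simp)] at h0
      · rw [map_zsmul, Pi.smul_apply, chiVec_twist _ (by simp; omega) le_rfl, if_pos rfl] at h0
        simpa using h0
      · rw [map_zsmul, Pi.smul_apply]
        rcases lt_trichotomy (i : ℕ) m with h | h | h
        · rw [show a i = 0 from ih i h i.2, zero_smul]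
        · exact absurd (Fin.ext h) hi
        · rw [chiVec_twist _ (by omega) (le_of_lt h), if_neg (Nat.ne_of_lt h), smul_zero]
  · obtain ⟨φ, hφ⟩ := Groth.Agent.S1052.result PP
    intro x
    have hx : φ x ∈ F.range.map φ.toAddMonoidHom := by
      generalize φ x = y
      refine K0Cat.clTr_induction (p := fun y => y ∈ F.range.map φ.toAddMonoidHom) y (zero_mem _) (fun E hE => ?_)
        (fun a h => neg_mem h) (fun a b ha hb => add_mem ha hb)
      refine clTr_mem (k := k) (n := n) _ (fun d hd => ?_) hE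
      refine ⟨g ⟨d, by omega⟩, ⟨Pi.single ⟨d, by omega⟩ 1, ?_⟩, hφ _ (isCoh_twist _)⟩
      change ∑ i, (Pi.single (⟨d, by omega⟩ : Fin (n + 1)) (1 : ℤ) : Fin (n + 1) → ℤ) i • g i = _
      simp [Pi.single_apply, ite_smul]
    obtain ⟨z, ⟨a, rfl⟩, hz⟩ := hx
    exact ⟨a, φ.injective hz⟩

end Groth.Agent.K0Pn9
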