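import Groth.Agent.Lib.K0Cat.Basic
import Mathlib.CategoryTheory.Linear.Basic
import Mathlib.CategoryTheory.Shift.CommShift
import Mathlib.CategoryTheory.Triangulated.Yoneda
import Mathlib.LinearAlgebra.FiniteDimensional.Lemmas

/-! Removing an exceptional object from an object of a linear pretriangulated category. -/

set_option autoImplicit false
set_option linter.style.haveILetI false
set_option linter.unusedSectionVars false

universe u v w

open CategoryTheory CategoryTheory.Limits CategoryTheory.Pretriangulated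

namespace Groth.Agent.K0Pn9

variable {k : Type w} [Field k] {D : Type u} [Category.{v} D] [Preadditive D] [Linear k D] [HasZeroObject D]
  [HasShift D ℤ] [∀ n : ℤ, (shiftFunctor D n).Additive] [Pretriangulated D]

/-- An object with only scalar endomorphisms and without self-extensions. -/
def Exceptional (k : Type w) [Field k] [Linear k D] (G : D) : Prop :=
  (∀ m : ℤ, m ≠ 0 → Subsingleton (G ⟶ G⟦m⟧)) ∧ ∀ f : G ⟶ G, ∃ c : k, f = c • 𝟙 G

/-- No maps to any shift. -/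
def Away (G E : D) : Prop := ∀ j : ℤ, Subsingleton (G ⟶ E⟦j⟧)

/-- Maps to the shifted first vertex of a triangle lifting to zero. -/
theorem exists_lift {G : D} (T : Triangle D) (hT : T ∈ distTriang D) (j : ℤ) (g : G ⟶ T.obj₃⟦j⟧)
    (hg : g ≫ T.mor₃⟦j⟧' = 0) : ∃ y : G ⟶ T.obj₂⟦j⟧, g = y ≫ T.mor₂⟦j⟧' := by
  let F := shiftFunctor D j
  let ε : F.obj (F.objPreimage G) ≅ G := F.objObjPreimageIso G
  obtain ⟨g', hg'⟩ := F.map_surjective (ε.hom ≫ g)
  have h0 : g' ≫ T.mor₃ = 0 := F.map_injective (by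
    rw [F.map_comp, hg', Category.assoc, hg, comp_zero, F.map_zero])
  obtain ⟨y, hy⟩ := T.coyoneda_exact₃ hT g' h0
  refine ⟨ε.inv ≫ F.map y, ?_⟩
  rw [Category.assoc, ← F.map_comp, ← hy, hg', Iso.inv_hom_id_assoc]

variable {G : D}

/-- A nonzero map out of an exceptional object is injective on maps from that object. -/
theorem eq_zero_of_comp (hG : Exceptional k G) {E : D} {i : ℤ} (φ : G⟦-i⟧ ⟶ E) (hφ : φ ≠ 0) (m : ℤ)
    (x : G ⟶ (G⟦-i⟧)⟦m⟧) (hx : x ≫ φ⟦m⟧' = 0) : x = 0 := by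
  by_cases h : m = i
  · subst h
    let e : (G⟦-m⟧)⟦m⟧ ≅ G := (shiftFunctorCompIsoId D (-m) m (neg_add_cancel m)).app G
    obtain ⟨c, hc⟩ := hG.2 (x ≫ e.hom)
    have hx' : x = c • e.inv := by
      rw [← cancel_mono e.hom, hc, Linear.smul_comp, Iso.inv_hom_id]
    have hψ : e.inv ≫ φ⟦m⟧' ≠ 0 := fun h0 => hφ <| (shiftFunctor D m).map_injective (by
      rw [← cancel_epi e.inv, h0, Functor.map_zero, comp_zero])
    rw [hx', Linear.smul_comp] at hx
    rcases smul_eq_zero.1 hx with h1 | h1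
    · rw [hx', h1, zero_smul]
    · exact absurd h1 hψ
  · let e := ((shiftFunctorAdd' D (-i) m (-i + m) rfl).app G)
    haveI := hG.1 (-i + m) (by omega)
    rw [← cancel_mono e.inv]
    exact Subsingleton.elim _ _

/-- The cone of such a map receives all maps surjectively. -/
theorem exists_lift_cone (hG : Exceptional k G) {i : ℤ} (T : Triangle D) (hT : T ∈ distTriang D)
    (e₁ : T.obj₁ ≅ G⟦-i⟧) (hφ : T.mor₁ ≠ 0) (j : ℤ) (g : G ⟶ T.obj₃⟦j⟧) :
    ∃ y : G ⟶ T.obj₂⟦j⟧, g = y ≫ T.mor₂⟦j⟧' := by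
  refine exists_lift T hT j g ?_
  let α := shiftFunctorAdd' D 1 j (1 + j) rfl
  let x : G ⟶ (G⟦-i⟧)⟦1 + j⟧ := g ≫ T.mor₃⟦j⟧' ≫ α.inv.app T.obj₁ ≫ e₁.hom⟦1 + j⟧'
  have h0 : T.mor₃ ≫ T.mor₁⟦(1 : ℤ)⟧' = 0 := comp_distTriang_mor_zero₃₁ _ hT
  have hx : x = 0 := eq_zero_of_comp hG (e₁.inv ≫ T.mor₁) (fun h => hφ (by
    rw [← cancel_epi e₁.inv, h, comp_zero])) (1 + j) x (by
    dsimp only [x]
    simp only [Category.assoc, ← Functor.map_comp, Iso.hom_inv_id_assoc]
    erw [← α.inv.naturality T.mor₁]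
    rw [Functor.comp_map, ← Category.assoc, ← Category.assoc]
    have h1 : g ≫ T.mor₃⟦j⟧' ≫ (T.mor₁⟦(1 : ℤ)⟧')⟦j⟧' = 0 := by
      rw [← Functor.map_comp, h0, Functor.map_zero, comp_zero]
    rw [← Category.assoc] at h1
    rw [h1, zero_comp])
  dsimp only [x] at hx
  rw [← cancel_mono (α.inv.app T.obj₁ ≫ e₁.hom⟦1 + j⟧'), zero_comp, Category.assoc]
  exact hx

/-- Away is inherited by the cone. -/
theorem Away.cone {G' : D} (hG' : Away G' G) {i : ℤ} (T : Triangle D) (hT : T ∈ distTriang D)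
    (e₁ : T.obj₁ ≅ G⟦-i⟧) (h : Away G' T.obj₂) : Away G' T.obj₃ := fun j => by
  refine ⟨fun a b => ?_⟩
  have : ∀ g : G' ⟶ T.obj₃⟦j⟧, g = 0 := fun g => by
    obtain ⟨y, hy⟩ := exists_lift T hT j g (by
      let e := (shiftFunctor D j).mapIso ((shiftFunctor D (1 : ℤ)).mapIso e₁ ≪≫
          ((shiftFunctorAdd' D (-i) 1 (-i + 1) rfl).app G).symm) ≪≫
        ((shiftFunctorAdd' D (-i + 1) j (-i + 1 + j) rfl).app G).symm
      rw [← cancel_mono e.hom]
      exact @Subsingleton.elim _ (hG' _) _ _)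
    rw [hy, @Subsingleton.elim _ (h j) y 0, zero_comp]
  rw [this a, this b]

variable {P : ObjectProperty D}

/-- Removing an exceptional object changes the class within a subgroup containing its shifts. -/
theorem exists_away (hG : Exceptional k G) (Q : D → Prop) (hQP : ∀ {E}, Q E → P E)
    (hPG : ∀ m : ℤ, P (G⟦m⟧)) (H : AddSubgroup (KZero.K0tr P)) (hH : ∀ m : ℤ, KZero.clTr P (G⟦m⟧) ∈ H)
    (hQ : ∀ (T : Triangle D) (i : ℤ), T ∈ distTriang D → (T.obj₁ ≅ G⟦-i⟧) → Q T.obj₂ → Q T.obj₃)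
    (s : Finset ℤ) (N : ℕ) (E : D) (hE : Q E) (hfin : ∀ j : ℤ, Module.Finite k (G ⟶ E⟦j⟧))
    (hs : ∀ j : ℤ, j ∉ s → Subsingleton (G ⟶ E⟦j⟧)) (hN : ∑ j ∈ s, Module.finrank k (G ⟶ E⟦j⟧) ≤ N) :
    ∃ C : D, Q C ∧ Away G C ∧ KZero.clTr P E - KZero.clTr P C ∈ H := by
  induction N generalizing E with
  | zero =>
    refine ⟨E, hE, fun j => ?_, by rw [sub_self]; exact zero_mem H⟩
    by_cases hj : j ∈ s
    · haveI := hfin j
      have h0 : Module.finrank k (G ⟶ E⟦j⟧) = 0 :=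
        Nat.eq_zero_of_le_zero ((Finset.single_le_sum (fun a _ => Nat.zero_le _) hj).trans hN)
      exact Module.finrank_zero_iff.1 h0
    · exact hs j hj
  | succ N ih =>
    by_cases hA : Away G E
    · exact ⟨E, hE, hA, by rw [sub_self]; exact zero_mem H⟩
    obtain ⟨i, hi⟩ := not_forall.1 hA
    obtain ⟨x, hx⟩ : ∃ x : G ⟶ E⟦i⟧, x ≠ 0 := by
      by_contra hc
      exact hi ⟨fun a b => by
        rw [of_not_not fun ha => hc ⟨a, ha⟩, of_not_not fun hb => hc ⟨b, hb⟩]⟩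
    have his : i ∈ s := by
      by_contra h
      exact hi (hs i h)
    let e : (G⟦-i⟧)⟦i⟧ ≅ G := (shiftFunctorCompIsoId D (-i) i (neg_add_cancel i)).app G
    obtain ⟨φ, hφ⟩ := (shiftFunctor D i).map_surjective (e.hom ≫ x)
    have hφ0 : φ ≠ 0 := fun h => hx (by
      rw [← cancel_epi e.hom, ← hφ, h, Functor.map_zero, comp_zero])
    obtain ⟨C, q, r, hT⟩ := distinguished_cocone_triangle φ
    let T := Triangle.mk φ q r
    let π := fun j : ℤ => Linear.rightComp k G (q⟦j⟧')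
    have hπ : ∀ j, Function.Surjective (π j) := fun j g => by
      obtain ⟨y, hy⟩ := exists_lift_cone hG (i := i) T hT (Iso.refl _) hφ0 j g
      exact ⟨y, hy.symm⟩
    have hfin' : ∀ j, Module.Finite k (G ⟶ C⟦j⟧) := fun j => by
      haveI := hfin j
      exact Module.Finite.of_surjective (π j) (hπ j)
    have hlt : Module.finrank k (G ⟶ C⟦i⟧) < Module.finrank k (G ⟶ E⟦i⟧) := by
      haveI := hfin i
      have hker : 0 < Module.finrank k (LinearMap.ker (π i)) := by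
        rw [Module.finrank_pos_iff_exists_ne_zero]
        refine ⟨⟨x, ?_⟩, fun h => hx (congrArg Subtype.val h)⟩
        show x ≫ q⟦i⟧' = 0
        rw [← cancel_epi e.hom, ← reassoc_of% hφ, ← Functor.map_comp,
          show φ ≫ q = 0 from comp_distTriang_mor_zero₁₂ T hT, Functor.map_zero, comp_zero]
      have := LinearMap.finrank_range_add_finrank_ker (π i)
      rw [LinearMap.range_eq_top.2 (hπ i), finrank_top] at this
      omega
    have hsum : ∑ j ∈ s, Module.finrank k (G ⟶ C⟦j⟧) < ∑ j ∈ s, Module.finrank k (G ⟶ E⟦j⟧) :=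
      Finset.sum_lt_sum (fun j _ => by
        haveI := hfin j
        exact (π j).finrank_le_finrank_of_surjective (hπ j) |> le_of_eq_of_le rfl) ⟨i, his, hlt⟩
    obtain ⟨C', hC', hA', hcl⟩ := ih C (hQ T i hT (Iso.refl _) hE) hfin'
      (fun j hj => by haveI := hs j hj; exact (hπ j).subsingleton) (by omega)
    refine ⟨C', hC', hA', ?_⟩
    have := K0Cat.clTr_tri T hT (hPG (-i)) (hQP hE) (hQP (hQ T i hT (Iso.refl _) hE))
    rw [show KZero.clTr P E = KZero.clTr P (G⟦-i⟧) + KZero.clTr P C from this, add_sub_assoc]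
    exact add_mem (hH _) hcl

end Groth.Agent.K0Pn9
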